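import Groth.Agent.LineAcycLib.Field
import Groth.Agent.SmoothBCLib.Line
import Groth.Agent.SmoothBCLib.LineAcyclic
import Groth.Agent.SmoothBCLib.AlgLine
import Groth.Agent.SmoothBCLib.KeyPlug
import Groth.Agent.AcycCompLib.Criterion
import Groth.Agent.CdFieldLib.PushVanish
import Groth.Agent.GeomConnPull.Field
import Groth.Agent.S0073
import Groth.Agent.S6662
import Groth.Agent.SmoothBCLib.Smooth
import Mathlib.AlgebraicGeometry.Geometrically.Connected

/-!
# Acyclicity of affine spaces

For a sheaf `F` killed by an integer invertible on `Y`, the unit `F → g_* g^* F` of `g : 𝔸^m_Y → Y` is an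
isomorphism and the higher direct images of `g^* F` vanish.
-/

set_option autoImplicit false
set_option linter.style.haveILetI false
set_option linter.unusedSectionVars false
set_option backward.isDefEq.respectTransparency false
set_option backward.isDefEq.respectTransparency.types false
set_option maxHeartbeats 1000000
set_option synthInstance.maxHeartbeats 400000

universe u

open CategoryTheory CategoryTheory.Limits AlgebraicGeometry Opposite CategoryTheory.Abelian
open Groth.Agent.SmoothBCLib

noncomputable section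

namespace Groth.Agent.LineAcycLib

theorem geometricallyConnected_affineSpace (n : Type u) (S : Scheme.{u}) :
    GeometricallyConnected (𝔸(n; S) ↘ S) := by
  refine ⟨?_⟩
  have h : geometrically (IrreducibleSpace ·) (𝔸(n; S) ↘ S) :=
    (inferInstance : GeometricallyIrreducible (𝔸(n; S) ↘ S)).geometrically_irreducibleSpace
  exact fun K _ y T fst snd hsq => haveI : IrreducibleSpace ↥T := h y fst snd hsq; (inferInstance : ConnectedSpace ↥T)

theorem flat_affineSpace (n : Type u) (S : Scheme.{u}) : Flat (𝔸(n; S) ↘ S) :=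
  MorphismProperty.pullback_fst _ _ <| by
    have := isIso_of_isTerminal specULiftZIsTerminal.{u} terminalIsTerminal (terminal.from _)
    rw [← terminal.comp_from (Spec.map (CommRingCat.ofHom MvPolynomial.C)),
      MorphismProperty.cancel_right_of_respectsIso (P := @Flat),
      HasRingHomProperty.Spec_iff (P := @Flat), CommRingCat.hom_ofHom, ← MvPolynomial.algebraMap_eq]
    exact RingHom.flat_algebraMap_iff.2 inferInstance

theorem geometricallyConnected_line {S' S : Scheme.{u}} {g : S' ⟶ S} (hg : IsLine g) : GeometricallyConnected g := by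
  obtain ⟨e, rfl⟩ := hg
  exact (MorphismProperty.cancel_left_of_respectsIso @GeometricallyConnected e.hom _).2
    (geometricallyConnected_affineSpace _ _)

theorem isAffineHom_line {S' S : Scheme.{u}} {g : S' ⟶ S} (hg : IsLine g) : IsAffineHom g := by
  obtain ⟨e, rfl⟩ := hg
  infer_instance

theorem isIso_unit_line {S' S : Scheme.{u}} {g : S' ⟶ S} (hg : IsLine g) (F : EtCoh.Ab S) :
    IsIso ((EtCoh.pullPushAdj g).unit.app F) := by
  haveI := hg.smooth
  haveI := isAffineHom_line hg
  haveI := geometricallyConnected_line hg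
  exact GeomConnPull.isIso_unit_of_flat g F

theorem natCast_ne_zero_of_invOn {n : ℕ} {K : Type u} [Field K] (h : InvOn n (Spec (CommRingCat.of K))) :
    (n : K) ≠ 0 := by
  have := h.map (Scheme.ΓSpecIso (CommRingCat.of K)).hom.hom
  rw [map_natCast] at this
  exact this.ne_zero

variable {n : ℕ}

/-- Over a scheme with algebraically closed local rings, lines have no higher direct images. -/
theorem isZero_Rpush_algFields {T T' : Scheme.{u}} (hT : AlgFields T) [CompactSpace T] [QuasiSeparatedSpace T]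
    (hS : InvOn n T) {b : T' ⟶ T} (hb : IsLine b) (N : EtCoh.Ab T) (hN : EtCoh.KilledBy n N) (q : ℕ) :
    IsZero ((EtCoh.Rpush b (q + 1)).obj ((EtCoh.pull b).obj N)) := by
  haveI := isAffineHom_line hb
  refine isZero_of_points _ fun t => ?_
  obtain ⟨K, _, _, η, _, _, hK⟩ := hT.exists_point t
  refine hK b _ _ ((subsingleton_H_pull_pull b (pullback.fst b η) _ rfl N _).1 ?_)
  let g₁ := pullback.snd b η
  obtain ⟨e, he⟩ := (hb.isPullback_map (IsPullback.of_hasPullback b η)).exists_iso_spec
  have hw : g₁ ≫ η = pullback.fst b η ≫ b := pullback.condition.symm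
  refine (subsingleton_H_pull_pull η g₁ _ hw N _).2 ?_
  refine subsingleton_H_pull_iso (lineMap K) e.inv g₁ ?_ ((EtCoh.pull η).obj N) _
    (subsingleton_H_line (natCast_ne_zero_of_invOn (hS.of_hom η)) _ (PBCLib.killedBy_pull η hN) q)
  rw [Iso.inv_comp_eq]
  exact he.symm

/-- A sheaf killed by `n` embeds into one with no cohomology on a line over its base. -/
theorem exists_mono_vanish (hn : 0 < n) {Y : Scheme.{u}} [CompactSpace Y] [QuasiSeparatedSpace Y]
    (hY : InvOn n Y) {X : Scheme.{u}} {g : X ⟶ Y} (hg : IsLine g) (F : EtCoh.Ab Y) (hF : EtCoh.KilledBy n F) :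
    ∃ (M : EtCoh.Ab Y) (a : F ⟶ M), Mono a ∧ EtCoh.KilledBy n M ∧
      ∀ q : ℕ, Subsingleton (EtCoh.H X ((EtCoh.pull g).obj M) (q + 1)) := by
  obtain ⟨T, p, hT, hp, _⟩ := exists_algFields_cover Y
  haveI := hp
  haveI : QuasiCompact p := quasiCompact_of_compactSpace p
  haveI : QuasiSeparated p := inferInstance
  let N := (EtCoh.pull p).obj F
  have hN : EtCoh.KilledBy n N := PBCLib.killedBy_pull p hF
  haveI := hg.smooth
  let T' := pullback p g
  let p' : T' ⟶ X := pullback.snd p g
  let b : T' ⟶ T := pullback.fst p g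
  have sq : IsPullback b p' p g := IsPullback.of_hasPullback p g
  have hb : IsLine b := hg.isPullback_map sq.flip
  refine ⟨(EtCoh.push p).obj N, (EtCoh.pullPushAdj p).unit.app F, EtPtsLib.mono_unit_of_surjective p F,
    CompBCLib.killedBy_push p hN, fun q => ?_⟩
  haveI := StrictLocLib.isIso_baseChange0_of_smooth p g p' b sq N
  haveI := Groth.Agent.S0101.result p'
  haveI := Groth.Agent.S0101.result b
  refine CdFieldLib.subsingleton_H_of_iso' (asIso (EtCoh.baseChange0 p g p' b sq.w N)) _ ?_
  have hu : UPtAcyclic g n :=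
    uPtAcyclic_line hn (algLineVanish_of_key henLineKey hn) hg hY
  refine CdFieldLib.subsingleton_H_push_of_Rpush p' (q + 1) ((EtCoh.pull b).obj N) ?_ fun i j _ hj => ?_
  · refine CdFieldLib.subsingleton_H_of_leray b (q + 1) _ fun i j hij => ?_
    rcases Nat.eq_zero_or_pos i with rfl | hi
    · obtain rfl : j = q + 1 := by omega
      exact CdpLib.subsingleton_H_of_isZero (isZero_Rpush_algFields hT (hY.of_hom p) hb N hN q) _
    · exact hT.subsingleton_H _ i hi
  · obtain ⟨j', rfl⟩ : ∃ j', j = j' + 1 := ⟨j - 1, by omega⟩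
    exact CdpLib.subsingleton_H_of_isZero (hu.self.algFields hT p p' b sq.flip N hN j') _

/-- Lines over strictly henselian schemes. -/
theorem subsingleton_H_line_local (hn : 0 < n) (R : Type u) [CommRing R] [HenselianLocalRing R]
    [IsSepClosed (IsLocalRing.ResidueField R)] (hR : InvOn n (Spec (CommRingCat.of R))) {X : Scheme.{u}}
    {g : X ⟶ Spec (CommRingCat.of R)} (hg : IsLine g) :
    ∀ (q : ℕ) (F : EtCoh.Ab (Spec (CommRingCat.of R))), EtCoh.KilledBy n F →
      Subsingleton (EtCoh.H X ((EtCoh.pull g).obj F) (q + 1)) := by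
  haveI := Groth.Agent.S0101.result g
  intro q
  induction q with
  | zero =>
    intro F hF
    obtain ⟨M, a, ha, hM, hz⟩ := exists_mono_vanish hn hR hg F hF
    haveI := ha
    let S := ShortComplex.mk a (cokernel.π a) (cokernel.condition a)
    have hS : S.ShortExact := { exact := ShortComplex.exact_cokernel a }
    refine subsingleton_of_forall_eq 0 fun x => ?_
    obtain ⟨y, rfl⟩ := Ext.covariant_sequence_exact₁ _ (hS.map_of_exact (EtCoh.pull g)) x
      (@Subsingleton.elim _ (hz 0) _ _) (n₀ := 0) rfl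
    obtain ⟨y', rfl⟩ := ((AcycCompLib.bijective_Hpull_of_unit g 0 S.X₃ 0 (isIso_unit_line hg _)
      (fun r h1 h2 => absurd (h1.trans h2) (by omega))).1 le_rfl).2 y
    refine (CompBCLib.Hpull_δ g hS y').symm.trans ?_
    have h1 := Groth.Agent.S0073.result R F 1 le_rfl
    rw [@Subsingleton.elim _ h1 (y'.comp hS.extClass rfl) 0, map_zero]
  | succ q ih =>
    intro F hF
    obtain ⟨M, a, ha, hM, hz⟩ := exists_mono_vanish hn hR hg F hF
    haveI := ha
    let S := ShortComplex.mk a (cokernel.π a) (cokernel.condition a)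
    have hS : S.ShortExact := { exact := ShortComplex.exact_cokernel a }
    refine subsingleton_of_forall_eq 0 fun x => ?_
    obtain ⟨y, rfl⟩ := Ext.covariant_sequence_exact₁ _ (hS.map_of_exact (EtCoh.pull g)) x
      (@Subsingleton.elim _ (hz (q + 1)) _ _) (n₀ := q + 1) rfl
    have hy : y = 0 := @Subsingleton.elim _ (ih S.X₃ (BCVertLib.killedBy_of_epi (cokernel.π a) hM)) y 0
    rw [hy, Ext.zero_comp]

/-- Reduction to the strictly henselian case. -/
theorem isZero_Rpush_pull_of_local {X Y : Scheme.{u}} (g : X ⟶ Y) [QuasiCompact g] [QuasiSeparated g]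
    (F : EtCoh.Ab Y) (q : ℕ)
    (h : ∀ (R : Type u) [CommRing R] [HenselianLocalRing R] [IsSepClosed (IsLocalRing.ResidueField R)]
      (v : Spec (CommRingCat.of R) ⟶ Y),
      Subsingleton (EtCoh.H (pullback g v) ((EtCoh.pull (pullback.snd g v)).obj ((EtCoh.pull v).obj F)) q)) :
    IsZero ((EtCoh.Rpush g q).obj ((EtCoh.pull g).obj F)) := by
  refine isZero_Rpush_of_strictLoc g _ q fun s R _ _ _ _ _ _ => ?_
  haveI : HenselianLocalRing R := Hensel.IsStrictHenselization.henselian (R := Y.presheaf.stalk s)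
  let v := Hens2.specOf Y s R
  exact (subsingleton_H_pull_pull g (pullback.fst g v) _ rfl F q).1
    ((subsingleton_H_pull_pull v (pullback.snd g v) _ pullback.condition.symm F q).2 (h R v))

theorem pos_of_invOn {R : Type u} [CommRing R] [Nontrivial R] {n : ℕ} (h : InvOn n (Spec (CommRingCat.of R))) :
    0 < n := by
  refine Nat.pos_of_ne_zero fun h0 => not_isUnit_zero (M₀ := R) ?_
  have := h.map (Scheme.ΓSpecIso (CommRingCat.of R)).hom.hom
  rwa [map_natCast, h0, Nat.cast_zero] at this

/-- **Lines are acyclic** for sheaves killed by an invertible integer. -/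
theorem isZero_Rpush_line {X Y : Scheme.{u}} {g : X ⟶ Y} (hg : IsLine g) (hY : InvOn n Y) (F : EtCoh.Ab Y)
    (hF : EtCoh.KilledBy n F) (q : ℕ) : IsZero ((EtCoh.Rpush g (q + 1)).obj ((EtCoh.pull g).obj F)) := by
  haveI := isAffineHom_line hg
  refine isZero_Rpush_pull_of_local g F _ fun R _ _ _ v => ?_
  exact subsingleton_H_line_local (pos_of_invOn (hY.of_hom v)) R (hY.of_hom v)
    (hg.isPullback_map (IsPullback.of_hasPullback g v)) q _ (PBCLib.killedBy_pull v hF)

/-- Higher direct images of pullbacks vanish. -/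
def Acyc (n : ℕ) {X Y : Scheme.{u}} (g : X ⟶ Y) : Prop :=
  ∀ (F : EtCoh.Ab Y), EtCoh.KilledBy n F → ∀ q : ℕ, IsZero ((EtCoh.Rpush g (q + 1)).obj ((EtCoh.pull g).obj F))

theorem acyc_comp_line {Z X Y : Scheme.{u}} {a : Z ⟶ X} (ha : IsLine a) {b : X ⟶ Y} (hb : Acyc n b)
    (hX : InvOn n X) : Acyc n (a ≫ b) := by
  intro F hF q
  let G := (EtCoh.pull b).obj F
  have hG : EtCoh.KilledBy n G := PBCLib.killedBy_pull b hF
  haveI := isIso_unit_line ha G
  have h := isZero_Rpush_line ha hX G hG
  obtain ⟨e⟩ := nonempty_Rpush_push_iso a b ((EtCoh.pull a).obj G) h (q + 1)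
  exact ((hb F hF q).of_iso (((EtCoh.Rpush b (q + 1)).mapIso (asIso ((EtCoh.pullPushAdj a).unit.app G))).symm)).of_iso
    (((EtCoh.Rpush (a ≫ b) (q + 1)).mapIso ((EtCore.pullComp a b).app F)) ≪≫ e.symm)

theorem isZero_Rpush_isIso {X Y : Scheme.{u}} (g : X ⟶ Y) [IsIso g] (G : EtCoh.Ab X) (q : ℕ) :
    IsZero ((EtCoh.Rpush g (q + 1)).obj G) := by
  haveI := S6662.preservesFiniteColimits_push_integral g
  haveI : (EtCoh.push g).IsRightAdjoint := (EtCoh.pullPushAdj g).isRightAdjoint
  haveI : PreservesFiniteLimits (EtCoh.push g) := inferInstance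
  let R := InjectiveResolution.of G
  refine IsZero.of_iso ?_ (R.isoRightDerivedObj (EtCoh.push g) (q + 1))
  change IsZero (HomologicalComplex.homology _ (q + 1))
  rw [← HomologicalComplex.exactAt_iff_isZero_homology]
  exact (R.cocomplex_exactAt_succ q).map (EtCoh.push g)

theorem acyc_of_isIso {X Y : Scheme.{u}} (g : X ⟶ Y) [IsIso g] : Acyc n g := fun _ _ q =>
  isZero_Rpush_isIso g _ q

/-- **Affine space over an affine base.** -/
theorem acyc_mvPolynomial (A : Type u) [CommRing A] (hA : InvOn n (Spec (CommRingCat.of A))) : ∀ m : ℕ,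
    Acyc n (Spec.map (CommRingCat.ofHom (MvPolynomial.C : A →+* MvPolynomial (Fin m) A)))
  | 0 => by
    let e : A ≃+* MvPolynomial (Fin 0) A := (MvPolynomial.isEmptyRingEquiv A (Fin 0)).symm
    have : CommRingCat.ofHom (MvPolynomial.C : A →+* MvPolynomial (Fin 0) A) = e.toCommRingCatIso.hom :=
      CommRingCat.hom_ext (RingHom.ext fun a => rfl)
    rw [this]
    exact acyc_of_isIso _
  | m + 1 => by
    let e : MvPolynomial (Fin (m + 1)) A ≃+* Polynomial (MvPolynomial (Fin m) A) :=
      (MvPolynomial.finSuccEquiv A m).toRingEquiv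
    have : CommRingCat.ofHom (MvPolynomial.C : A →+* MvPolynomial (Fin (m + 1)) A) =
        CommRingCat.ofHom (MvPolynomial.C : A →+* MvPolynomial (Fin m) A) ≫
          CommRingCat.ofHom (Polynomial.C : MvPolynomial (Fin m) A →+* _) ≫ e.toCommRingCatIso.inv := by
      refine CommRingCat.hom_ext (RingHom.ext fun a => ?_)
      exact ((MvPolynomial.finSuccEquiv A m).symm.commutes a).symm
    rw [this, Spec.map_comp, Spec.map_comp]
    refine acyc_comp_line ?_ (acyc_mvPolynomial A hA m)
      (hA.of_hom (Spec.map (CommRingCat.ofHom MvPolynomial.C)))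
    obtain ⟨e', he'⟩ := isLine_spec_C (MvPolynomial (Fin m) A)
    exact ⟨asIso (Spec.map e.toCommRingCatIso.inv) ≪≫ e', by
      rw [Iso.trans_hom, Category.assoc, he']; rfl⟩

/-- **Affine spaces are acyclic.** -/
theorem isZero_Rpush_affineSpace {Y : Scheme.{u}} (m : ℕ) (hY : InvOn n Y) (F : EtCoh.Ab Y)
    (hF : EtCoh.KilledBy n F) (q : ℕ) :
    IsZero ((EtCoh.Rpush (𝔸(ULift.{u} (Fin m); Y) ↘ Y) (q + 1)).obj
      ((EtCoh.pull (𝔸(ULift.{u} (Fin m); Y) ↘ Y)).obj F)) := by
  refine isZero_Rpush_pull_of_local _ F _ fun R _ _ _ v => ?_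
  let G := (EtCoh.pull v).obj F
  let g := Spec.map (CommRingCat.ofHom (MvPolynomial.C : R →+* MvPolynomial (Fin m) R))
  haveI := Groth.Agent.S0101.result g
  have h1 : Subsingleton (EtCoh.H (Spec (CommRingCat.of (MvPolynomial (Fin m) R))) ((EtCoh.pull g).obj G) (q + 1)) := by
    refine CdFieldLib.subsingleton_H_of_leray g (q + 1) _ fun i j hij => ?_
    rcases Nat.eq_zero_or_pos j with rfl | hj
    · exact Groth.Agent.S0073.result R _ i (by omega)
    · obtain ⟨j', rfl⟩ : ∃ j', j = j' + 1 := ⟨j - 1, by omega⟩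
      exact CdpLib.subsingleton_H_of_isZero (acyc_mvPolynomial R (hY.of_hom v) m G (PBCLib.killedBy_pull v hF) j') i
  let ι := ULift.{u} (Fin m)
  let f : MvPolynomial ι R ≃+* MvPolynomial (Fin m) R := (MvPolynomial.renameEquiv R Equiv.ulift).toRingEquiv
  let k : pullback (𝔸(ι; Y) ↘ Y) v ≅ Spec (CommRingCat.of (MvPolynomial (Fin m) R)) :=
    ((IsPullback.of_hasPullback (𝔸(ι; Y) ↘ Y) v).isoIsPullback _ _ (AffineSpace.isPullback_map v)) ≪≫
      AffineSpace.SpecIso ι (CommRingCat.of R) ≪≫ Scheme.Spec.mapIso f.symm.toCommRingCatIso.op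
  have hk : k.hom ≫ g = pullback.snd (𝔸(ι; Y) ↘ Y) v := by
    rw [← Iso.eq_inv_comp]
    simp only [k, Iso.trans_inv, Category.assoc, IsPullback.isoIsPullback_inv_snd,
      AffineSpace.SpecIso_inv_over]
    show Spec.map _ = Spec.map _ ≫ Spec.map _
    rw [← Spec.map_comp]
    refine congrArg Spec.map (CommRingCat.hom_ext (RingHom.ext fun r => ?_))
    exact ((MvPolynomial.renameEquiv R (Equiv.ulift : ι ≃ Fin m)).commutes r).symm
  exact subsingleton_H_pull_iso g k.hom _ hk G _ h1

end Groth.Agent.LineAcycLib
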