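import Groth.Agent.CurveH12.Main
import Groth.Agent.PicProjLib.Affine
import Groth.Agent.AffCurveLib.Vanish
import Groth.Agent.SmoothBCLib.Const
import Groth.Agent.PBCLib.Fibration
import Mathlib.RingTheory.KrullDimension.Polynomial

/-!
# The affine line over an algebraically closed field has no higher cohomology in sheaves killed by an invertible integer
-/

set_option autoImplicit false
set_option linter.style.haveILetI false
set_option backward.isDefEq.respectTransparency false
set_option backward.isDefEq.respectTransparency.types false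
set_option maxHeartbeats 1000000
set_option synthInstance.maxHeartbeats 400000

universe u

open CategoryTheory CategoryTheory.Limits AlgebraicGeometry Opposite

noncomputable section

namespace Groth.Agent.LineAcycLib

variable {K : Type u} [Field K]

/-- The affine line over a field. -/
abbrev lineMap (K : Type u) [Field K] : Spec (CommRingCat.of (Polynomial K)) ⟶ Spec (CommRingCat.of K) :=
  Spec.map (CommRingCat.ofHom (Polynomial.C : K →+* Polynomial K))

theorem isUnit_natCast_line {d : ℕ} (hd : (d : K) ≠ 0) :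
    IsUnit (d : Γ(Spec (CommRingCat.of (Polynomial K)), ⊤)) :=
  CurveH12.isUnit_natCast_gamma (lineMap K) hd

theorem pic_line_eq_one (a : PicLib.Pic (Spec (CommRingCat.of (Polynomial K)))) : a = 1 := by
  haveI : IsDomain (CommRingCat.of (Polynomial K)) := inferInstanceAs (IsDomain (Polynomial K))
  haveI : UniqueFactorizationMonoid (CommRingCat.of (Polynomial K)) :=
    inferInstanceAs (UniqueFactorizationMonoid (Polynomial K))
  exact PicProjLib.pic_spec_ufd a

variable [IsAlgClosed K]

theorem exists_nsmul_eq_H0Gm {d : ℕ} (hd : 0 < d)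
    (z : EtCoh.H (Spec (CommRingCat.of (Polynomial K))) (EtCoh.Gm (Spec (CommRingCat.of (Polynomial K)))) 0) :
    ∃ w, d • w = z := by
  let X := Spec (CommRingCat.of (Polynomial K))
  let e : Γ(X, ⊤) ≃+* Polynomial K := (Scheme.ΓSpecIso (CommRingCat.of (Polynomial K))).commRingCatIsoToRingEquiv
  obtain ⟨c, hc, hcz⟩ := Polynomial.isUnit_iff.1 ((CurveH12.H0Gm X z).toMul.isUnit.map e)
  obtain ⟨r, hr⟩ := IsAlgClosed.exists_pow_nat_eq c hd
  have hru : IsUnit r := (isUnit_pow_iff hd.ne').1 (hr.symm ▸ hc)
  have hu : IsUnit (e.symm (Polynomial.C r)) := (hru.map Polynomial.C).map e.symm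
  refine ⟨(CurveH12.H0Gm X).symm (Additive.ofMul hu.unit), (CurveH12.H0Gm X).injective ?_⟩
  rw [map_nsmul, AddEquiv.apply_symm_apply]
  refine congrArg Additive.ofMul (show hu.unit ^ d = (CurveH12.H0Gm X z).toMul from Units.ext ?_)
  rw [Units.val_pow_eq_pow_val, IsUnit.unit_spec, ← map_pow, ← map_pow, hr, hcz, RingEquiv.symm_apply_apply]

theorem subsingleton_H1_zmod {d : ℕ} (hd : 0 < d) (hdK : (d : K) ≠ 0) :
    Subsingleton (EtCoh.H (Spec (CommRingCat.of (Polynomial K)))
      (EtCoh.const (Spec (CommRingCat.of (Polynomial K))) (ZMod d)) 1) := by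
  let X := Spec (CommRingCat.of (Polynomial K))
  obtain ⟨eP⟩ := CurveH12.nonempty_pic_H1 X
  haveI : Subsingleton (PicLib.Pic X) := ⟨fun a b => (pic_line_eq_one a).trans (pic_line_eq_one b).symm⟩
  haveI : Subsingleton (EtCoh.H X (EtCoh.Gm X) 1) := eP.symm.injective.subsingleton
  obtain ⟨a1⟩ := CurveH12.nonempty_H1_mu (Groth.Agent.S0108.result X d (isUnit_natCast_line hdK))
    (exists_nsmul_eq_H0Gm hd)
  obtain ⟨i⟩ := CurveH12.nonempty_mu_iso_const (lineMap K) hd hdK
  haveI := a1.injective.subsingleton
  exact CdFieldLib.subsingleton_H_of_iso' i.symm 1 inferInstance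

theorem cohDimLE_line : EtCoh.CohDimLE (Spec (CommRingCat.of (Polynomial K))) 1 := by
  haveI : LocallyOfFiniteType (lineMap K) := by
    rw [HasRingHomProperty.Spec_iff (P := @LocallyOfFiniteType)]
    exact RingHom.finiteType_algebraMap.2 (inferInstance : Algebra.FiniteType K (Polynomial K))
  refine AffCurveLib.cohDimLE_one (lineMap K) ?_
  show topologicalKrullDim (PrimeSpectrum (Polynomial K)) ≤ 1
  rw [PrimeSpectrum.topologicalKrullDim_eq_ringKrullDim, Polynomial.ringKrullDim_of_isNoetherianRing,
    ringKrullDim_eq_zero_of_field]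
  exact le_of_eq (zero_add 1)

/-- **The cohomology of the affine line over an algebraically closed field.** -/
theorem subsingleton_H_line {n : ℕ} (hn : (n : K) ≠ 0) (G : EtCoh.Ab (Spec (CommRingCat.of K)))
    (hG : EtCoh.KilledBy n G) (q : ℕ) :
    Subsingleton (EtCoh.H (Spec (CommRingCat.of (Polynomial K))) ((EtCoh.pull (lineMap K)).obj G) (q + 1)) := by
  have hn0 : 0 < n := Nat.pos_of_ne_zero fun h => hn (by rw [h, Nat.cast_zero])
  rcases q with _ | q
  · have hz : SmoothBCLib.ZModVanish (Spec (CommRingCat.of (Polynomial K))) n 1 := fun d ⟨m, hm⟩ hd0 =>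
      subsingleton_H1_zmod hd0 fun h => hn (by rw [hm, Nat.cast_mul, h, zero_mul])
    obtain ⟨e⟩ := PBCLib.nonempty_iso_const G
    let M := G.obj.obj (op (EtCoh.top (Spec (CommRingCat.of K))))
    haveI := SmoothBCLib.subsingleton_H_const_killed hn0 hz M fun m => hG _ m
    exact CdFieldLib.subsingleton_H_of_iso'
      ((EtCoh.pull _).mapIso e.symm ≪≫ (EtCore.pullConstIso (lineMap K)).app M) 1 this
  · exact cohDimLE_line _ (PBCLib.isTorsion_of_killedBy' hn0 (PBCLib.killedBy_pull _ hG)) _ (by omega)

end Groth.Agent.LineAcycLib
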